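import Groth.Agent.MonoFibre.HomLocus
import Groth.Agent.FpqcDesc.Basic
import Groth.Agent.PointBC.Basic
import Groth.Prelude.Def_AlgGrp

/-! Homomorphisms of group schemes detected on the kernel. -/

set_option autoImplicit false
set_option backward.isDefEq.respectTransparency false
set_option backward.isDefEq.respectTransparency.types false
set_option linter.style.haveILetI false
universe u

open CategoryTheory CategoryTheory.Limits MonoidalCategory CartesianMonoidalCategory MonObj AlgebraicGeometry

namespace Groth.Agent.SgaHomLib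

open MonoFibre

variable {S : Scheme.{u}}

theorem unit_w (G : Over S) [GrpObj G] : η[G].left ≫ G.hom = 𝟙 S := (Over.w η[G]).trans rfl

theorem isIso_unit_comp (G : Over S) [GrpObj G] : IsIso (η[G].left ≫ G.hom) := by
  rw [unit_w]; exact (inferInstanceAs (IsIso (𝟙 S)))

theorem isImmersion_unit (G : Over S) [GrpObj G] : IsImmersion η[G].left := by
  haveI := isIso_unit_comp G
  haveI : IsImmersion (η[G].left ≫ G.hom) := inferInstance
  exact IsImmersion.of_comp η[G].left G.hom

variable {G H K : Over S} [GrpObj G] [GrpObj H] (u : G ⟶ H) (i : K ⟶ G)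

theorem isPullback_kernel (hK : AlgGrp.IsKernel i u) :
    IsPullback i.left K.hom u.left η[H].left := by
  have h : IsPullback i.left (toUnit K).left u.left η[H].left := hK.map (Over.forget S)
  rwa [show (toUnit K).left = K.hom from (Category.comp_id _).symm.trans (Over.w (toUnit K))] at h

theorem exists_point (hK : AlgGrp.IsKernel i u) (x : G.left) (s : S) (h : u.left x = η[H].left s) :
    ∃ k : K.left, i.left k = x ∧ K.hom k = s := by
  have hpb := isPullback_kernel u i hK
  obtain ⟨z, hz₁, hz₂⟩ := Scheme.Pullback.exists_preimage_pullback (f := u.left) (g := η[H].left) x s h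
  refine ⟨hpb.isoPullback.inv z, ?_, ?_⟩
  · rw [← Scheme.Hom.comp_apply, hpb.isoPullback_inv_fst]; exact hz₁
  · rw [← Scheme.Hom.comp_apply, hpb.isoPullback_inv_snd]; exact hz₂

variable [IsMonHom u]

theorem map_unit (s : S) : u.left (η[G].left s) = η[H].left s := by
  rw [← Scheme.Hom.comp_apply, ← Over.comp_left, IsMonHom.one_hom u]

theorem hom_unit (s : S) : G.hom (η[G].left s) = s := by
  rw [← Scheme.Hom.comp_apply, unit_w]; rfl

theorem of_locus (P : MorphismProperty Scheme.{u}) [IsZariskiLocalAtSource P]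
    (hloc : {x : G.left | ∃ W : G.left.Opens, x ∈ W ∧ P (W.ι ≫ u.left)} =
      G.hom.base ⁻¹' {s : S | P ((Over.pullback (S.fromSpecResidueField s)).map u).left})
    (h : ∀ s : S, P ((Over.pullback (S.fromSpecResidueField s)).map u).left) : P u.left := by
  have hall : ∀ x : G.left, ∃ W : G.left.Opens, x ∈ W ∧ P (W.ι ≫ u.left) := fun x =>
    (Set.ext_iff.1 hloc x).2 (h _)
  choose W hx hW using hall
  exact IsZariskiLocalAtSource.of_iSup_eq_top (P := P) W
    (top_unique fun x _ => TopologicalSpace.Opens.mem_iSup.2 ⟨x, hx x⟩) hW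

theorem isPullback_bc (b : Over S) {T : Scheme.{u}} (c : T ⟶ S) (v : G ⟶ b) :
    IsPullback (pullback.fst G.hom c) ((Over.pullback c).map v).left v.left (pullback.fst b.hom c) := by
  refine IsPullback.of_bot ?_ (pullback.lift_fst _ _ _).symm (IsPullback.of_hasPullback b.hom c)
  rw [show ((Over.pullback c).map v).left ≫ pullback.snd b.hom c = pullback.snd G.hom c from Over.w _, Over.w v]
  exact IsPullback.of_hasPullback G.hom c

/-- Local quasi-finiteness of a homomorphism. -/
theorem lqf_tfae [LocallyOfFiniteType u.left] (hG : ∀ s : S, LocallyOfFiniteType (G.hom.fiberToSpecResidueField s))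
    (hK : AlgGrp.IsKernel i u) :
    (LocallyQuasiFinite u.left ↔ ∀ s : S, LocallyQuasiFinite ((Over.pullback (S.fromSpecResidueField s)).map u).left) ∧
    (LocallyQuasiFinite u.left ↔ LocallyQuasiFinite K.hom) ∧
    (LocallyQuasiFinite u.left ↔ ∀ s : S, DiscreteTopology ↥(K.hom.base ⁻¹' {s})) := by
  haveI := FpqcDesc.locallyQuasiFinite_descends.{u}
  obtain ⟨-, hloc⟩ := HomLocus.locus_of_lft u hG (@LocallyQuasiFinite : MorphismProperty Scheme.{u})
    fun s z x hx => HomLocus.exists_lqf_nhd_iff_fibre u.left H.hom G.hom (Over.w u) s z x hx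
  have hpb := isPullback_kernel u i hK
  have h1 : LocallyQuasiFinite u.left → ∀ s : S, LocallyQuasiFinite ((Over.pullback (S.fromSpecResidueField s)).map u).left :=
    fun h s => MorphismProperty.of_isPullback (P := @LocallyQuasiFinite) (isPullback_bc _ _ u) h
  have h2 : LocallyQuasiFinite u.left → LocallyQuasiFinite K.hom :=
    fun h => MorphismProperty.of_isPullback (P := @LocallyQuasiFinite) hpb h
  have h3 : LocallyQuasiFinite K.hom → ∀ s : S, DiscreteTopology ↥(K.hom.base ⁻¹' {s}) := fun h s => by
    haveI := h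
    exact isDiscrete_iff_discreteTopology.1 (K.hom.isDiscrete_preimage_singleton s)
  have h4 : (∀ s : S, DiscreteTopology ↥(K.hom.base ⁻¹' {s})) → LocallyQuasiFinite u.left := by
    intro h
    haveI : IsImmersion i.left :=
      MorphismProperty.of_isPullback (P := @IsImmersion) hpb.flip (isImmersion_unit H)
    refine of_locus u _ hloc fun s => ?_
    have hx : ∃ W : G.left.Opens, η[G].left s ∈ W ∧ LocallyQuasiFinite (W.ι ≫ u.left) := by
      rw [HomLocus.exists_lqf_nhd_iff]
      obtain ⟨k₀, hk₀, hk₀'⟩ := exists_point u i hK (η[G].left s) s (map_unit u s)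
      haveI := h s
      obtain ⟨O', hO', e⟩ := isOpen_induced_iff.1 (isOpen_discrete ({⟨k₀, hk₀'⟩} : Set ↥(K.hom.base ⁻¹' {s})))
      obtain ⟨O, hO, rfl⟩ := i.left.isEmbedding.isInducing.isOpen_iff.mp hO'
      refine ⟨O, hO, hk₀ ▸ (Set.ext_iff.1 e ⟨k₀, hk₀'⟩).2 rfl, ?_⟩
      rintro x ⟨hxO, hxu⟩
      obtain ⟨k, rfl, hk⟩ := exists_point u i hK x s ((show u.left x = _ from hxu).trans (map_unit u s))
      have hk' := congrArg Subtype.val ((Set.ext_iff.1 e ⟨k, hk⟩).1 hxO)
      rw [← hk₀]
      exact congrArg i.left hk'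
    exact hom_unit (G := G) s ▸ (Set.ext_iff.1 hloc _).1 hx
  exact ⟨⟨h1, of_locus u _ hloc⟩, ⟨h2, fun h => h4 (h3 h)⟩, ⟨fun h => h3 (h2 h), h4⟩⟩

omit [IsMonHom u] in
theorem fiber_unit (hK : AlgGrp.IsKernel i u) (P : MorphismProperty Scheme.{u}) [P.IsStableUnderBaseChange]
    (h : P K.hom) (s : S) : P (u.left.fiberToSpecResidueField (η[H].left s)) := by
  haveI := isImmersion_unit H
  have hiso : IsIso (η[H].left.residueFieldMap s) := by
    refine (ConcreteCategory.isIso_iff_bijective _).2 ⟨RingHom.injective _, ?_⟩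
    intro b
    obtain ⟨b, rfl⟩ := IsLocalRing.residue_surjective b
    obtain ⟨a, rfl⟩ := η[H].left.stalkMap_surjective s b
    exact ⟨IsLocalRing.residue _ a, rfl⟩
  haveI := hiso
  let c : Spec (H.left.residueField (η[H].left s)) ⟶ S :=
    inv (Spec.map (η[H].left.residueFieldMap s)) ≫ S.fromSpecResidueField s
  have hc : c ≫ η[H].left = H.left.fromSpecResidueField (η[H].left s) := by
    rw [Category.assoc, IsIso.inv_comp_eq]
    exact (Scheme.Hom.SpecMap_residueFieldMap_fromSpecResidueField η[H].left s).symm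
  have hpb := isPullback_kernel u i hK
  let a : u.left.fiber (η[H].left s) ⟶ K.left :=
    hpb.lift (u.left.fiberι _) (u.left.fiberToSpecResidueField _ ≫ c) (by
      rw [Category.assoc, hc]; exact pullback.condition)
  refine MorphismProperty.of_isPullback (P := P) (f := c) (f' := a) (g := K.hom) ?_ h
  refine IsPullback.of_right (h₁₂ := i.left) (v₁₃ := u.left) (h₂₂ := η[H].left) ?_ (hpb.lift_snd _ _ _) hpb
  rw [hpb.lift_fst, hc]
  exact IsPullback.of_hasPullback u.left _

theorem isOpenImmersion_unit_iff {K : Over S} [GrpObj K] [LocallyOfFinitePresentation K.hom] :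
    FormallyUnramified K.hom ↔ IsOpenImmersion η[K].left := by
  constructor
  · intro h
    haveI := isIso_unit_comp K
    haveI : Etale (η[K].left ≫ K.hom) := inferInstance
    haveI : Etale η[K].left := Etale.of_comp η[K].left K.hom
    haveI : Mono (η[K].left ≫ K.hom) := inferInstance
    haveI : Mono η[K].left := mono_of_mono η[K].left K.hom
    exact IsOpenImmersion.of_flat_of_mono _
  · intro h
    have hK' : ∀ s : S, LocallyOfFiniteType (K.hom.fiberToSpecResidueField s) := fun s =>
      MorphismProperty.pullback_snd _ _ inferInstance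
    have e : (toUnit K).left = K.hom := (Category.comp_id _).symm.trans (Over.w (toUnit K))
    haveI : LocallyOfFiniteType (toUnit K).left := by rw [e]; infer_instance
    obtain ⟨-, hloc⟩ := HomLocus.locus_of_lft (toUnit K) hK' (@FormallyUnramified : MorphismProperty Scheme.{u})
      fun s z x hx => HomLocus.exists_unramified_nhd_iff_fibre (toUnit K).left (𝟙_ (Over S)).hom K.hom
        (Over.w (toUnit K)) s z x hx
    rw [← e]
    refine of_locus (toUnit K) _ hloc fun s => ?_
    refine hom_unit (G := K) s ▸ (Set.ext_iff.1 hloc _).1 ⟨η[K].left.opensRange, ⟨s, rfl⟩, ?_⟩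
    have hi : η[K].left.opensRange.ι ≫ (toUnit K).left = η[K].left.isoOpensRange.inv := by
      rw [e, ← cancel_epi η[K].left.isoOpensRange.hom, Iso.hom_inv_id, Scheme.Hom.isoOpensRange_hom_ι_assoc, unit_w]
    rw [hi]
    infer_instance

/-- Unramifiedness of a homomorphism. -/
theorem unramified_tfae [GrpObj K] [LocallyOfFinitePresentation u.left]
    (hG : ∀ s : S, LocallyOfFiniteType (G.hom.fiberToSpecResidueField s)) (hK : AlgGrp.IsKernel i u) :
    (FormallyUnramified u.left ↔ ∀ s : S, FormallyUnramified ((Over.pullback (S.fromSpecResidueField s)).map u).left) ∧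
    (FormallyUnramified u.left ↔ FormallyUnramified K.hom) ∧
    (FormallyUnramified u.left ↔ IsOpenImmersion η[K].left) := by
  obtain ⟨-, hloc⟩ := HomLocus.locus_of_lft u hG (@FormallyUnramified : MorphismProperty Scheme.{u})
    fun s z x hx => HomLocus.exists_unramified_nhd_iff_fibre u.left H.hom G.hom (Over.w u) s z x hx
  have hpb := isPullback_kernel u i hK
  haveI : LocallyOfFinitePresentation K.hom :=
    MorphismProperty.of_isPullback (P := @LocallyOfFinitePresentation) hpb inferInstance
  have h1 : FormallyUnramified u.left → ∀ s : S, FormallyUnramified ((Over.pullback (S.fromSpecResidueField s)).map u).left :=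
    fun h s => MorphismProperty.of_isPullback (P := @FormallyUnramified) (isPullback_bc _ _ u) h
  have h2 : FormallyUnramified u.left ↔ FormallyUnramified K.hom := by
    refine ⟨fun h => MorphismProperty.of_isPullback (P := @FormallyUnramified) hpb h, fun h => ?_⟩
    refine of_locus u _ hloc fun s => ?_
    refine hom_unit (G := G) s ▸ (Set.ext_iff.1 hloc _).1
      ((FlatLocus.exists_formallyUnramified_nhd_iff u.left _).2 ?_)
    haveI := fiber_unit u i hK (@FormallyUnramified) h s
    obtain ⟨z, hz⟩ : η[G].left s ∈ Set.range (u.left.fiberι (η[H].left s)) := by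
      rw [Scheme.Hom.range_fiberι]; exact map_unit u s
    rw [← hz]
    exact (PointBC.formallyUnramified_iff_fibre u.left _ z).2 (FormallyUnramified.stalkMap _ z)
  exact ⟨⟨h1, of_locus u _ hloc⟩, h2, h2.trans isOpenImmersion_unit_iff⟩

end Groth.Agent.SgaHomLib
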